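import Groth.Agent.Lib.RefHull26.ODRef
import Groth.Agent.Lib.ParaF27.UFDCrit

/-!
# Weil divisors of invertible modules on normal schemes
-/

set_option autoImplicit false
universe u
set_option linter.style.haveILetI false
set_option backward.isDefEq.respectTransparency.types false

open CategoryTheory AlgebraicGeometry TopologicalSpace Opposite

namespace Groth.Agent.Div21F12

open Groth.Agent.RH26

variable {X : Scheme.{u}} [IsIntegral X] [IsLocallyNoetherian X]

theorem gen_oneStalk (x : X) : Amp.Gen (M := Coh.structureModule X) (str x 1) :=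
  show Function.Bijective (fun r : X.presheaf.stalk x => r • str x 1) by
    have : (fun r : X.presheaf.stalk x => r • str x 1) = str x := funext fun r => by
      rw [← map_smul, smul_eq_mul, mul_one]
    rw [this]; exact (str x).bijective

theorem r1_of_invertible (hX : Pi1.IsNormalScheme X) {L : X.Modules} (hL : PicF.IsInvertible L) (hc : Coh.IsCoh L) :
    R1 L := by
  refine ⟨hX, hc, ⟨fun x => ?_, fun x a h => ?_⟩, Cyc26.exists_gen hL _⟩
  · obtain ⟨g, hg⟩ := Cyc26.exists_gen hL x
    have hgη := Cyc26.gen_stalkSpecializes hL (gsp x) hg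
    intro v w hvw
    obtain ⟨r, rfl⟩ := hg.2 v
    obtain ⟨s, rfl⟩ := hg.2 w
    simp only [Cyc26.stalkSpecializes_smul] at hvw
    rw [sp_injective x (hgη.1 hvw)]
  · obtain ⟨g, hg⟩ := Cyc26.exists_gen hL x
    have hgη := Cyc26.gen_stalkSpecializes hL (gsp x) hg
    obtain ⟨k, rfl⟩ := hgη.2 a
    obtain ⟨b, hb⟩ := mem_range_sp hX x k fun ξ hξ h1 => by
      obtain ⟨v, hv⟩ := h ξ hξ h1
      obtain ⟨r, rfl⟩ := (Cyc26.gen_stalkSpecializes hL hξ hg).2 v
      refine ⟨r, hgη.1 ?_⟩
      rw [Cyc26.stalkSpecializes_smul, sp_trans] at hv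
      exact hv
    exact ⟨b • g, by rw [Cyc26.stalkSpecializes_smul, hb]⟩

theorem r1_structure (hX : Pi1.IsNormalScheme X) : R1 (Coh.structureModule X) :=
  ⟨hX, M1.isCoh_structureModule X, closed1_structure hX, _, gen_oneStalk (genericPoint X)⟩

theorem ordv_structure {x : X} (hx : Order.coheight x = 1) {φ : X.functionField} (hφ : φ ≠ 0) :
    ordv (Coh.structureModule X) x (φ • str (genericPoint X) 1) = Scheme.ord φ x := by
  have h1 : (Coh.structureModule X).presheaf.stalkSpecializes (gsp x) (str x 1) = str (genericPoint X) 1 := by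
    have h := Cyc26.stalkSpecializes_smul_one (gsp x) (1 : X.presheaf.stalk x)
    rw [map_one] at h
    exact h
  rw [← h1]
  exact ordv_gen hx (gen_oneStalk x) (h1 ▸ gen_oneStalk (genericPoint X)) hφ

theorem nonempty_iso_of_ord (hX : Pi1.IsNormalScheme X) {L : X.Modules} (hL : PicF.IsInvertible L) (hc : Coh.IsCoh L)
    {a : L.presheaf.stalk (genericPoint X)} (ha : a ≠ 0) {f : X.functionField} (hf : f ≠ 0)
    (h : ∀ x : X, Order.coheight x = 1 → ordv L x a = Scheme.ord f x) :
    Nonempty (L ≅ Coh.structureModule X) := by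
  refine (r1_of_invertible hX hL hc).nonempty_iso (r1_structure hX) ha
    (t := f • str (genericPoint X) 1) (fun h0 => hf ((gen_oneStalk (genericPoint X)).1 ?_)) fun x hx => ?_
  · show f • str (genericPoint X) 1 = (0 : X.presheaf.stalk (genericPoint X)) • str (genericPoint X) 1
    rw [h0, zero_smul]
  · rw [ordv_structure hx hf, h x hx]

theorem isInvertible_od (hX : Pi1.IsNormalScheme X) (D : AlgebraicCycle X ℤ)
    (hU : ∀ x : X, UniqueFactorizationMonoid (X.presheaf.stalk x)) : PicF.IsInvertible (od hX D) :=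
  isInvertible_of_gen isCoh_od fun x => by
    haveI := hU x
    exact exists_gen_of_isReflexiveAt_ufd isCoh_od
      ((isReflexive_iff_stalks isCoh_od).1 r1_od.isRef1.2.1 x) gen_oneη

theorem ord_eq_zero_of_isUnit (hX : Pi1.IsNormalScheme X) {x : X} (hx : Order.coheight x = 1)
    {r : X.presheaf.stalk x} (hr : IsUnit r) : Scheme.ord (X.presheaf.stalkSpecializes (gsp x) r : X.functionField) x = 0 := by
  obtain ⟨u, rfl⟩ := hr
  set a : X.functionField := X.presheaf.stalkSpecializes (gsp x) (u : X.presheaf.stalk x) with ha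
  set b : X.functionField := X.presheaf.stalkSpecializes (gsp x) (↑u⁻¹ : X.presheaf.stalk x) with hb
  have hab : a * b = 1 := by
    rw [ha, hb]
    exact (map_mul (X.presheaf.stalkSpecializes (gsp x)).hom _ _).symm.trans (by rw [Units.mul_inv]; exact map_one _)
  have ha0 : a ≠ 0 := fun h => by rw [h, zero_mul] at hab; exact zero_ne_one hab
  have hb0 : b ≠ 0 := fun h => by rw [h, mul_zero] at hab; exact zero_ne_one hab
  have h1 : 0 ≤ Scheme.ord a x := (inStalk_function_iff hX hx ha0).1 ⟨_, rfl⟩
  have h2 : 0 ≤ Scheme.ord b x := (inStalk_function_iff hX hx hb0).1 ⟨_, rfl⟩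
  have h3 := Scheme.ord_mul (x := x) ha0 hb0
  rw [hab, ord_one] at h3
  omega

/-- Cartier divisors in codimension one give unique factorisation. -/
theorem ufd_stalk_of_cartier (hX : Pi1.IsNormalScheme X)
    (h : ∀ ξ : X, Order.coheight ξ = 1 → ∃ (L : X.Modules) (_ : PicF.IsInvertible L)
      (a : L.presheaf.stalk (genericPoint X)), a ≠ 0 ∧
      ordv L ξ a = 1 ∧ ∀ y : X, Order.coheight y = 1 → y ≠ ξ → ordv L y a = 0)
    (x : X) : UniqueFactorizationMonoid (X.presheaf.stalk x) := by
  haveI := (hX x).1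
  refine ParaF27.ufd_of_height_one (X.presheaf.stalk x) fun Q _ hQ => ?_
  obtain ⟨ξ, hξ, rfl⟩ := DivDesc12.exists_primeAt_eq x Q
  have hξ1 : Order.coheight ξ = 1 := by
    rw [← dim_eq_one_iff, LocFact12.ringKrullDim_eq_height hξ, hQ]; rfl
  obtain ⟨L, hL, a, ha, haξ, hay⟩ := h ξ hξ1
  obtain ⟨g, hg⟩ := Cyc26.exists_gen hL x
  have hgη := Cyc26.gen_stalkSpecializes hL (gsp x) hg
  obtain ⟨k, rfl⟩ := hgη.2 a
  have hk : (k : X.functionField) ≠ 0 := fun h0 => ha (by rw [show k = (0 : X.presheaf.stalk (genericPoint X)) from h0]; exact zero_smul _ _)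
  have hord : ∀ y : X, y ⤳ x → Order.coheight y = 1 →
      ordv L y ((k : X.presheaf.stalk (genericPoint X)) • L.presheaf.stalkSpecializes (gsp x) g) = Scheme.ord (k : X.functionField) y := by
    intro y hy h1
    have hg' := Cyc26.gen_stalkSpecializes hL hy hg
    have hsp : L.presheaf.stalkSpecializes (gsp x) g = L.presheaf.stalkSpecializes (gsp y) (L.presheaf.stalkSpecializes hy g) :=
      (sp_trans L hy (gsp y) g).symm
    rw [hsp]
    exact ordv_gen h1 hg' (Cyc26.gen_stalkSpecializes hL (gsp y) hg') hk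
  have hnn : ∀ y : X, y ⤳ x → Order.coheight y = 1 → 0 ≤ Scheme.ord (k : X.functionField) y := by
    intro y hy h1
    rw [← hord y hy h1]
    by_cases hyξ : y = ξ
    · rw [hyξ, haξ]; exact zero_le_one
    · rw [hay y h1 hyξ]
  obtain ⟨b, hb⟩ := mem_range_sp hX x k fun y hy h1 =>
    (inStalk_function_iff hX ((dim_eq_one_iff y).1 h1) hk).2 (hnn y hy ((dim_eq_one_iff y).1 h1))
  have hkξ : Scheme.ord (k : X.functionField) ξ = 1 := (hord ξ hξ hξ1).symm.trans haξ
  refine ⟨b, le_antisymm (fun q hq => ?_) (Ideal.span_le.2 (Set.singleton_subset_iff.2 ?_))⟩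
  · rcases eq_or_ne q 0 with rfl | hq0
    · exact zero_mem _
    have hq' : ¬ IsUnit (X.presheaf.stalkSpecializes hξ q) := (DivDesc12.mem_primeAt hξ).1 hq
    set Q : X.functionField := X.presheaf.stalkSpecializes (gsp x) q with hQdef
    have hQ0 : Q ≠ 0 := fun h0 => hq0 (sp_injective x (h0.trans (map_zero _).symm))
    have hQy : ∀ (y : X) (hy : y ⤳ x), Q = X.presheaf.stalkSpecializes (gsp y) (X.presheaf.stalkSpecializes hy q) :=
      fun y hy => (sp_trans' hy (gsp y) q).symm
    obtain ⟨c, hc⟩ := (isField_η (X := X)).mul_inv_cancel hk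
    have hc0 : (c : X.functionField) ≠ 0 := fun h0 => by
      rw [show c = (0 : X.presheaf.stalk (genericPoint X)) from h0, mul_zero] at hc; exact zero_ne_one hc
    have hordc : ∀ y : X, Scheme.ord (c : X.functionField) y = - Scheme.ord (k : X.functionField) y := fun y => by
      have h3 := Scheme.ord_mul (x := y) hk hc0
      rw [show ((k : X.functionField) * c) = 1 from hc, ord_one] at h3
      omega
    obtain ⟨d, hd⟩ := mem_range_sp hX x (Q * c : X.functionField) fun y hy h1 => by
      have h1' := (dim_eq_one_iff y).1 h1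
      refine (inStalk_function_iff hX h1' (mul_ne_zero (M₀ := X.functionField) hQ0 hc0)).2 ?_
      rw [Scheme.ord_mul hQ0 hc0, hordc]
      by_cases hyξ : y = ξ
      · subst hyξ
        have h5 := one_le_ord_of_not_isUnit hX h1' (r := X.presheaf.stalkSpecializes hy q)
          (fun h0 => hQ0 ((hQy y hy).trans (by rw [h0, map_zero]))) hq'
        rw [algebraMap_sp, ← hQy y hy] at h5
        rw [hkξ]
        omega
      · have h5 : 0 ≤ Scheme.ord Q y := (inStalk_function_iff hX h1' hQ0).1 ⟨_, (hQy y hy).symm⟩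
        have h6 := hord y hy h1'
        rw [hay y h1' hyξ] at h6
        omega
    refine Ideal.mem_span_singleton.2 ⟨d, sp_injective x ?_⟩
    rw [map_mul, hb, hd]
    show Q = (k : X.functionField) * (Q * c)
    rw [mul_left_comm, show ((k : X.functionField) * c) = 1 from hc, mul_one]
  · refine (DivDesc12.mem_primeAt hξ).2 fun hu => ?_
    have := ord_eq_zero_of_isUnit hX hξ1 hu
    rw [show X.presheaf.stalkSpecializes (gsp ξ) (DivDesc12.sp hξ b) = k from (sp_trans' hξ (gsp ξ) b).trans hb, hkξ] at this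
    exact one_ne_zero this

end Groth.Agent.Div21F12
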