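import Groth.Agent.Lib.RefHull26.ODRef
import Groth.Agent.Lib.ParaF27.UFDCrit

/-!
# Local principality of cycles where the local rings are parafactorial
-/

set_option autoImplicit false
universe u
set_option linter.style.haveILetI false
set_option backward.isDefEq.respectTransparency.types false

open CategoryTheory AlgebraicGeometry TopologicalSpace Opposite IsLocalRing

namespace Groth.Agent.Div21F12

open Groth.Agent.ParaF27 Groth.Agent.M1 in
/-- Variant of `ParaF27.exists_generator_away` for a saturated ideal. -/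
theorem isPrincipal_of_gen_sat {A : Type u} [CommRing A] [IsDomain A] (U : (Spec (CommRingCat.of A)).Opens)
    (H : ParaF27.DvdOn A U) (P : Ideal A) (hP0 : P ≠ ⊥) {q : PrimeSpectrum A} (hq : q ∈ U)
    (hsat : ∀ a : A, (∀ p : PrimeSpectrum A, p ∈ U → ∃ s ∉ p.asIdeal, s * a ∈ P) → a ∈ P)
    (hgen : ∃ τ : Γ(tilde (R := CommRingCat.of A) (ModuleCat.of A P), U),
      Twist.IsGen (tilde (R := CommRingCat.of A) (ModuleCat.of A P)) U τ) :
    ∃ a ∈ P, a ≠ 0 ∧ ∀ x ∈ P, a ∣ x := by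
  let R := CommRingCat.of A
  let N : ModuleCat.{u} R := ModuleCat.of R P
  obtain ⟨τ, hτ⟩ := hgen
  have hmem : ∀ p : PrimeSpectrum A, p ∈ U → ∃ g ∉ p.asIdeal, bo (R := R) g ≤ U := by
    intro p hpm
    obtain ⟨V, ⟨g, rfl⟩, hgV, hVU⟩ := Opens.isBasis_iff_nbhd.mp (isBasis_bo (R := R))
      hpm
    exact ⟨g, hgV, hVU⟩
  obtain ⟨g₀, hg₀, hg₀U⟩ := hmem q hq
  obtain ⟨u, n, hu, hgen₀⟩ := exists_gen_of_isGen N hτ hg₀U
  have hg₀0 : g₀ ≠ 0 := fun h => hg₀ (h ▸ q.asIdeal.zero_mem)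
  set v := g₀ ^ n with hv
  have hv0 : v ≠ 0 := pow_ne_zero _ hg₀0
  have hu0 : (u : P).1 ≠ 0 := by
    obtain ⟨x, hxP, hx0⟩ := Submodule.exists_mem_ne_zero_of_ne_bot hP0
    obtain ⟨k, c, hc⟩ := hgen₀ (⟨x, hxP⟩ : P)
    intro h
    have hc' : g₀ ^ k * x = c * (u : P).1 := congrArg Subtype.val hc
    rw [h, mul_zero] at hc'
    exact mul_ne_zero (pow_ne_zero k hg₀0) hx0 hc'
  have key : ∀ p : PrimeSpectrum A, p ∈ U → ∃ g ∉ p.asIdeal, ∃ (m : ℕ) (w : P),
      g ^ m * (u : P).1 = v * (w : A) ∧ ∀ x ∈ P, ∃ k c, g ^ k * x = c * (w : A) := by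
    intro p hpm
    obtain ⟨g, hg, hgU⟩ := hmem p hpm
    obtain ⟨w, m, hw, hgen⟩ := exists_gen_of_isGen N hτ hgU
    refine ⟨g, hg, m, w, ?_, fun x hx => ?_⟩
    swap
    · obtain ⟨k, c, hc⟩ := hgen (⟨x, hx⟩ : P)
      exact ⟨k, c, congrArg Subtype.val hc⟩
    have hgg : g * g₀ ≠ 0 := mul_ne_zero (fun h => hg (h ▸ p.asIdeal.zero_mem)) hg₀0
    obtain ⟨k, hk⟩ := compare_gen N hgU hg₀U hw hu
    exact mul_left_cancel₀ (pow_ne_zero k hgg) (congrArg Subtype.val hk)
  obtain ⟨a, ha⟩ := H (u : P).1 v hv0 fun p hpm => by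
    obtain ⟨g, hg, m, w, hgw, -⟩ := key p hpm
    exact ⟨g ^ m, fun h => hg (p.isPrime.mem_of_pow_mem m h), ⟨w, hgw⟩⟩
  have haP : a ∈ P := hsat a fun p hpm => by
    obtain ⟨g, hg, m, w, hgw, -⟩ := key p hpm
    refine ⟨g ^ m, fun h => hg (p.isPrime.mem_of_pow_mem m h), ?_⟩
    have : g ^ m * a = (w : A) := mul_left_cancel₀ hv0 (by rw [ha] at hgw; linear_combination hgw)
    exact this ▸ w.2
  refine ⟨a, haP, fun h => hu0 (by rw [ha, h, mul_zero]), fun x hx => ?_⟩
  obtain ⟨d, hd⟩ := H (v * x) _ hu0 fun p hpm => by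
    obtain ⟨g, hg, m, w, hgw, hgen⟩ := key p hpm
    obtain ⟨k, c, hc⟩ := hgen x hx
    refine ⟨g ^ k, fun h => hg (p.isPrime.mem_of_pow_mem k h), g ^ m * c, ?_⟩
    linear_combination v * hc + (-c) * hgw
  exact ⟨d, mul_left_cancel₀ hv0 (by rw [hd, ha]; ring)⟩

open Groth.Agent.RH26

variable {X : Scheme.{u}} [IsIntegral X] [IsLocallyNoetherian X]

/-- The value at the generic point of an element of a local ring. -/
noncomputable def val (x : X) (r : X.presheaf.stalk x) : X.functionField := X.presheaf.stalkSpecializes (gsp x) r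

theorem val_mul (x : X) (r s : X.presheaf.stalk x) : val x (r * s) = val x r * val x s :=
  map_mul (X.presheaf.stalkSpecializes (gsp x)).hom r s

theorem val_injective (x : X) : Function.Injective (val x) := sp_injective x

theorem val_ne_zero (x : X) {r : X.presheaf.stalk x} (hr : r ≠ 0) : val x r ≠ 0 := fun h =>
  hr (val_injective x (h.trans (map_zero _).symm))

theorem val_sp {ξ x : X} (h : ξ ⤳ x) (r : X.presheaf.stalk x) : val ξ (DivDesc12.sp h r) = val x r :=
  sp_trans' h (gsp ξ) r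

theorem ord_val_nonneg (hX : Pi1.IsNormalScheme X) {ξ x : X} (h : ξ ⤳ x) (h1 : Order.coheight ξ = 1)
    {r : X.presheaf.stalk x} (hr : r ≠ 0) : 0 ≤ Scheme.ord (val x r) ξ :=
  (inStalk_function_iff hX h1 (val_ne_zero x hr)).1 ⟨_, val_sp h r⟩

theorem ord_val_eq_zero (hX : Pi1.IsNormalScheme X) {ξ x : X} (h : ξ ⤳ x) (h1 : Order.coheight ξ = 1)
    {r : X.presheaf.stalk x} (hr : r ∉ DivDesc12.primeAt h) : Scheme.ord (val x r) ξ = 0 := by
  have hu : IsUnit (DivDesc12.sp h r) := not_not.1 ((DivDesc12.mem_primeAt h).not.1 hr)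
  obtain ⟨u, hu⟩ := hu
  set b : X.functionField := val ξ (↑u⁻¹ : X.presheaf.stalk ξ) with hb
  have hab : val x r * b = 1 := by
    rw [← val_sp h r, ← hu, hb, ← val_mul, Units.mul_inv]; exact map_one _
  have ha0 : val x r ≠ 0 := fun h0 => by rw [h0, zero_mul] at hab; exact zero_ne_one hab
  have hb0 : b ≠ 0 := fun h0 => by rw [h0, mul_zero] at hab; exact zero_ne_one hab
  have h1' : 0 ≤ Scheme.ord (val x r) ξ := (inStalk_function_iff hX h1 ha0).1 ⟨_, val_sp h r⟩
  have h2 : 0 ≤ Scheme.ord b ξ := (inStalk_function_iff hX h1 hb0).1 ⟨_, rfl⟩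
  have h3 := Scheme.ord_mul (x := ξ) ha0 hb0
  rw [hab, ord_one] at h3
  omega

theorem ord_inv {k : X.functionField} (hk : k ≠ 0) (x : X) : Scheme.ord k⁻¹ x = - Scheme.ord k x := by
  have h := Scheme.ord_mul (x := x) hk (inv_ne_zero hk)
  rw [mul_inv_cancel₀ hk, ord_one] at h
  omega

theorem exists_denominator_cycle (hX : Pi1.IsNormalScheme X) (Z : AlgebraicCycle X ℤ) (x : X) :
    ∃ c : X.functionField, c ≠ 0 ∧ ∀ ξ, ξ ⤳ x → Order.coheight ξ = 1 → Scheme.ord c ξ + Z ξ ≤ 0 := by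
  classical
  obtain ⟨t, ht, hfin⟩ := Z.supportLocallyFiniteWithinDomain' x trivial
  obtain ⟨W, hWt, hW, hxW⟩ := mem_nhds_iff.1 ht
  let F := {ξ : X | ξ ∈ t ∩ Function.support Z.toFun ∧ ξ ⤳ x ∧ Order.coheight ξ = 1}
  have hF : F.Finite := hfin.subset fun ξ h => h.1
  have hb : ∀ ξ ∈ F, ∃ r : X.presheaf.stalk x, r ≠ 0 ∧ 1 ≤ Scheme.ord (val x r) ξ := by
    intro ξ hξ
    obtain ⟨k, hk, hk1⟩ := exists_ord_eq hX hξ.2.2 1
    obtain ⟨⟨n, d⟩, hnd⟩ := IsLocalization.surj (nonZeroDivisors (X.presheaf.stalk x)) (k : X.functionField)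
    change k * val x d.1 = val x n at hnd
    have hd0 : d.1 ≠ 0 := nonZeroDivisors.ne_zero d.2
    have hn0 : n ≠ 0 := fun h0 => mul_ne_zero hk (val_ne_zero x hd0) (hnd.trans (by rw [h0]; exact map_zero _))
    refine ⟨n, hn0, ?_⟩
    rw [← hnd, Scheme.ord_mul hk (val_ne_zero x hd0), hk1]
    have := ord_val_nonneg hX hξ.2.1 hξ.2.2 hd0
    omega
  choose! r hr0 hr1 using hb
  let B := ∏ ξ ∈ hF.toFinset, r ξ
  let N : ℕ := ∑ ξ ∈ hF.toFinset, (Z ξ).natAbs
  have hB0 : B ≠ 0 := Finset.prod_ne_zero_iff.2 fun ξ hξ => hr0 ξ (hF.mem_toFinset.1 hξ)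
  have hb0 : val x (B ^ N) ≠ 0 := val_ne_zero x (pow_ne_zero N hB0)
  refine ⟨(val x (B ^ N))⁻¹, inv_ne_zero hb0, fun ξ hξ h1 => ?_⟩
  rw [ord_inv hb0]
  by_cases hZ : Z ξ = 0
  · have := ord_val_nonneg hX hξ h1 (pow_ne_zero N hB0)
    omega
  have hξF : ξ ∈ F := ⟨⟨hWt (hξ.mem_open hW hxW), hZ⟩, hξ, h1⟩
  have hB1 : 1 ≤ Scheme.ord (val x B) ξ := by
    have hrest : ∏ η ∈ hF.toFinset.erase ξ, r η ≠ 0 :=
      Finset.prod_ne_zero_iff.2 fun η hη => hr0 η (hF.mem_toFinset.1 (Finset.mem_of_mem_erase hη))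
    have : B = r ξ * ∏ η ∈ hF.toFinset.erase ξ, r η := (Finset.mul_prod_erase _ _ (hF.mem_toFinset.2 hξF)).symm
    rw [this, val_mul, Scheme.ord_mul (val_ne_zero x (hr0 ξ hξF)) (val_ne_zero x hrest)]
    have := hr1 ξ hξF
    have := ord_val_nonneg hX hξ h1 hrest
    omega
  have hpow : ∀ n : ℕ, Scheme.ord (val x (B ^ n)) ξ = n * Scheme.ord (val x B) ξ := by
    intro n
    induction n with
    | zero =>
      rw [pow_zero, show val x 1 = 1 from map_one _, ord_one]
      simp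
    | succ n ih =>
      rw [pow_succ, val_mul, Scheme.ord_mul (val_ne_zero x (pow_ne_zero n hB0)) (val_ne_zero x hB0), ih]
      push_cast; ring
  have hle : (Z ξ).natAbs ≤ N :=
    Finset.single_le_sum (f := fun η => (Z η).natAbs) (fun _ _ => Nat.zero_le _) (hF.mem_toFinset.2 hξF)
  have hNm := mul_le_mul_of_nonneg_left hB1 (Int.natCast_nonneg N)
  rw [mul_one] at hNm
  rw [hpow]
  omega

theorem principal_step (hX : Pi1.IsNormalScheme X) (Z : AlgebraicCycle X ℤ) (x : X)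
    (hdim : (2 : WithBot ℕ∞) ≤ ringKrullDim (X.presheaf.stalk x))
    (hpic : ParaF.PicTrivial (FEt.puncturedSpec (X.presheaf.stalk x) : Scheme.{u}))
    (h : ∀ ξ : X, ξ ⤳ x → ringKrullDim (X.presheaf.stalk ξ) < ringKrullDim (X.presheaf.stalk x) →
      ∃ f : X.functionField, f ≠ 0 ∧ ∀ η, Order.coheight η = 1 → η ⤳ ξ → Z η = Scheme.ord f η) :
    ∃ f : X.functionField, f ≠ 0 ∧ ∀ η, Order.coheight η = 1 → η ⤳ x → Z η = Scheme.ord f η := by
  classical
  obtain ⟨c, hc, hcZ⟩ := exists_denominator_cycle hX Z x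
  let R := (X.presheaf.stalk x : Type u)
  let I : Ideal R :=
    { carrier := {r | ∀ ξ, ξ ⤳ x → Good Z.toFun (val x r * c) ξ}
      add_mem' := fun {a b} ha hb ξ hξ => by
        have : val x (a + b) * c = val x a * c + val x b * c := by
          rw [show val x (a + b) = val x a + val x b from map_add _ a b, add_mul]
        rw [this]; exact good_add hX (ha ξ hξ) (hb ξ hξ)
      zero_mem' := fun ξ _ => by
        rw [show val x 0 = 0 from map_zero _, zero_mul]; exact good_zero _ ξ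
      smul_mem' := fun r a ha ξ hξ => by
        rw [smul_eq_mul, val_mul, mul_assoc, ← val_sp hξ r]
        exact good_smul (ha ξ hξ) _ }
  have hlt : ∀ {ξ : X} (hξ : ξ ⤳ x), DivDesc12.primeAt hξ ≠ maximalIdeal R →
      ringKrullDim (X.presheaf.stalk ξ) < ringKrullDim (X.presheaf.stalk x) := by
    intro ξ hξ hne
    rw [LocFact12.ringKrullDim_eq_height hξ, ← IsLocalRing.maximalIdeal_height_eq_ringKrullDim]
    haveI : (DivDesc12.primeAt hξ).IsPrime := inferInstance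
    exact WithBot.coe_lt_coe.2 (Ideal.height_strict_mono_of_isPrime
      (lt_of_le_of_ne (IsLocalRing.le_maximalIdeal (Ideal.IsPrime.ne_top ‹_›)) hne))
  have hH1 : ∀ {ξ : X} (hξ : ξ ⤳ x), Order.coheight ξ = 1 → DivDesc12.primeAt hξ ≠ maximalIdeal R := by
    intro ξ hξ h1 heq
    have h2 := LocFact12.ringKrullDim_eq_height hξ
    rw [(dim_eq_one_iff ξ).2 h1, heq, IsLocalRing.maximalIdeal_height_eq_ringKrullDim] at h2
    rw [← h2] at hdim
    exact absurd hdim (by decide)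
  have hloc : ∀ p : PrimeSpectrum R, p.asIdeal ≠ maximalIdeal R → ∃ b ∈ I, b ≠ 0 ∧
      (∃ f ∉ p.asIdeal, ∀ y ∈ I, ∃ d, f * y = d * b) ∧
      ∀ η, Order.coheight η = 1 → ∀ hη : η ⤳ x, DivDesc12.primeAt hη = p.asIdeal →
        Scheme.ord (val x b * c) η = - Z η := by
    intro p hp
    haveI := p.isPrime
    obtain ⟨ξ, hξ, hpξ⟩ := DivDesc12.exists_primeAt_eq x p.asIdeal
    obtain ⟨f, hf, hfZ⟩ := h ξ hξ (hlt hξ (hpξ ▸ hp))
    have hgood : ∀ η, η ⤳ ξ → Order.coheight η = 1 → Good Z.toFun f⁻¹ η := fun η hη h1 _ => Or.inr (by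
      rw [ord_inv hf, ← hfZ η h1 hη]
      show 0 ≤ -Z η + Z η
      omega)
    obtain ⟨w, hw⟩ := (inStalk_od_iff (hX := hX) (D := Z) ξ f⁻¹).2 hgood
    obtain ⟨r, v, hr, he⟩ := exists_smul_eq_sp isQCoh_od hξ w
    have hr' : r ∉ DivDesc12.primeAt hξ := fun hm => (DivDesc12.mem_primeAt hξ).1 hm hr
    have hr0 : r ≠ 0 := fun h0 => hr' (h0 ▸ zero_mem _)
    have hk : InStalk (od hX Z) x ((val x r * f⁻¹) • oneη hX Z) := by
      refine ⟨v, ?_⟩
      rw [← sp_trans _ hξ (gsp ξ), ← he, Cyc26.stalkSpecializes_smul, hw, sp_trans' hξ (gsp ξ) r, ← mul_smul]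
      rfl
    have hkGood := (inStalk_od_iff x _).1 hk
    have hk0 : val x r * f⁻¹ ≠ 0 := mul_ne_zero (val_ne_zero x hr0) (inv_ne_zero hf)
    obtain ⟨b, hb⟩ := mem_range_sp hX x (val x r * f⁻¹ * c⁻¹ : X.functionField) fun η hη h1 => by
      have h1' := (dim_eq_one_iff η).1 h1
      refine (inStalk_function_iff hX h1' (mul_ne_zero hk0 (inv_ne_zero hc))).2 ?_
      rw [Scheme.ord_mul hk0 (inv_ne_zero hc), ord_inv hc]
      have h5 : 0 ≤ Scheme.ord (val x r * f⁻¹) η + Z η := (hkGood η hη h1' h1').resolve_left hk0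
      have h6 := hcZ η hη h1'
      omega
    change val x b = _ at hb
    have hbc : val x b * c = val x r * f⁻¹ := by
      rw [hb, mul_assoc _ c⁻¹, inv_mul_cancel₀ hc, mul_one]
    have hb0 : b ≠ 0 := fun h0 => hk0 (by rw [← hbc, h0, show val x 0 = 0 from map_zero _, zero_mul])
    have hbI : b ∈ I := fun η hη => by
      rw [hbc]
      intro h1
      exact hkGood η hη h1 h1
    refine ⟨b, hbI, hb0, ?_, fun η h1 hη he => ?_⟩
    · have hx : ∀ y ∈ I, ∃ s ∉ p.asIdeal, b ∣ s * y := by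
        intro y hy
        rcases eq_or_ne y 0 with rfl | hy0
        · exact ⟨1, p.isPrime.one_notMem, by rw [mul_zero]; exact dvd_zero b⟩
        obtain ⟨e, he⟩ := mem_range_sp hX ξ (val x y * (val x b)⁻¹ : X.functionField) fun η hη h1 => by
          have h1' := (dim_eq_one_iff η).1 h1
          refine (inStalk_function_iff hX h1' (mul_ne_zero (val_ne_zero x hy0) (inv_ne_zero (val_ne_zero x hb0)))).2 ?_
          rw [Scheme.ord_mul (val_ne_zero x hy0) (inv_ne_zero (val_ne_zero x hb0)), ord_inv (val_ne_zero x hb0)]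
          have h5 : 0 ≤ Scheme.ord (val x y * c) η + Z η :=
            (hy η (hη.trans hξ) h1').resolve_left (mul_ne_zero (val_ne_zero x hy0) hc)
          have hrη : r ∉ DivDesc12.primeAt (hη.trans hξ) := fun hm => by
            refine (DivDesc12.mem_primeAt _).1 hm ?_
            rw [← DivDesc12.sp_comp hη hξ r]
            exact hr.map _
          have h6 : Scheme.ord (val x b * c) η = - Z η := by
            rw [hbc, Scheme.ord_mul (val_ne_zero x hr0) (inv_ne_zero hf), ord_inv hf,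
              ord_val_eq_zero hX (hη.trans hξ) h1' hrη, ← hfZ η h1' hη, zero_add]
          rw [Scheme.ord_mul (val_ne_zero x hy0) hc] at h5
          rw [Scheme.ord_mul (val_ne_zero x hb0) hc] at h6
          omega
        letI := (DivDesc12.sp hξ).toAlgebra
        haveI := LocFact12.isLocalization_sp hξ
        obtain ⟨⟨n, s⟩, hs⟩ := IsLocalization.surj (DivDesc12.primeAt hξ).primeCompl e
        refine ⟨s.1, fun hm => s.2 (hpξ.ge hm), n, val_injective x ?_⟩
        have hs' : val ξ e * val x s.1 = val x n := by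
          rw [← val_sp hξ s.1, ← val_sp hξ n, ← val_mul]
          exact congrArg _ hs
        change val ξ e = _ at he
        rw [val_mul, val_mul, ← hs', he]
        field_simp [val_ne_zero x hb0]
      obtain ⟨G, hG⟩ := IsNoetherian.noetherian (R := R) I
      choose s hs hsd using hx
      refine ⟨∏ y ∈ G.attach, s y.1 (hG.le (Submodule.subset_span y.2)),
        prod_mem (S := p.asIdeal.primeCompl) fun y _ => hs _ _, fun y hy => ?_⟩
      have : I ≤ Submodule.comap (LinearMap.mulLeft R (∏ y ∈ G.attach, s y.1 (hG.le (Submodule.subset_span y.2))))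
          (Ideal.span {b}) := by
        refine hG.ge.trans (Submodule.span_le.2 ?_)
        refine fun z hz => Ideal.mem_span_singleton.2 ((hsd z (hG.le (Submodule.subset_span hz))).trans ?_)
        exact mul_dvd_mul_right (Finset.dvd_prod_of_mem (fun w : {w // w ∈ G} => s w.1 _) (Finset.mem_attach G ⟨z, hz⟩)) z
      obtain ⟨d, hd⟩ := Ideal.mem_span_singleton.1 (this hy)
      exact ⟨d, (show _ * y = b * d from hd).trans (mul_comm b d)⟩
    · have hηξ : η ⤳ ξ := DivDesc12.specializes_of_primeAt_le hξ hη (by rw [he, hpξ])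
      have hrη : r ∉ DivDesc12.primeAt hη := by rw [he, ← hpξ]; exact hr'
      rw [hbc, Scheme.ord_mul (val_ne_zero x hr0) (inv_ne_zero hf), ord_inv hf,
        ord_val_eq_zero hX hη h1 hrη, ← hfZ η h1 hηξ, zero_add]
  haveI := (hX x).2
  have hH : ParaF27.DvdOn R (FEt.puncturedSpec R) := by
    intro y a ha hy
    obtain ⟨e, he⟩ := mem_range_sp hX x (val x y * (val x a)⁻¹ : X.functionField) fun η hη h1 => by
      have h1' := (dim_eq_one_iff η).1 h1
      obtain ⟨s, hs, d, hd⟩ := hy ⟨DivDesc12.primeAt hη, inferInstance⟩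
        ((ParaF27.mem_puncturedSpec_iff R).2 (hH1 hη h1'))
      rcases eq_or_ne y 0 with rfl | hy0
      · exact ⟨0, by rw [show val x 0 = 0 from map_zero _, zero_mul]; exact map_zero _⟩
      refine (inStalk_function_iff hX h1' (mul_ne_zero (val_ne_zero x hy0) (inv_ne_zero (val_ne_zero x ha)))).2 ?_
      have hd0 : d ≠ 0 := fun h0 => mul_ne_zero (fun e => hs (by rw [e]; exact zero_mem _)) hy0 (hd.trans (by rw [h0, mul_zero]))
      have h5 := congrArg (fun z => Scheme.ord (val x z) η) hd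
      rw [val_mul, val_mul] at h5
      rw [Scheme.ord_mul (val_ne_zero x fun e => hs (by rw [e]; exact zero_mem _)) (val_ne_zero x hy0),
        Scheme.ord_mul (val_ne_zero x ha) (val_ne_zero x hd0), ord_val_eq_zero hX hη h1' hs] at h5
      rw [Scheme.ord_mul (val_ne_zero x hy0) (inv_ne_zero (val_ne_zero x ha)), ord_inv (val_ne_zero x ha)]
      have := ord_val_nonneg hX hη h1' hd0
      omega
    refine ⟨e, val_injective x ?_⟩
    change val x e = _ at he
    rw [val_mul, he, mul_left_comm, mul_inv_cancel₀ (val_ne_zero x ha), mul_one]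
  have hbot : (⊥ : Ideal R) ≠ maximalIdeal R := fun e => by
    have h2 := hdim.trans_eq IsLocalRing.maximalIdeal_height_eq_ringKrullDim.symm
    rw [← e, Ideal.height_bot] at h2
    exact absurd h2 (by decide)
  obtain ⟨b0, hb0I, hb0, -, -⟩ := hloc ⟨⊥, Ideal.isPrime_bot⟩ hbot
  obtain ⟨e⟩ := hpic _ (ParaF27.isInvertible_tilde_restrict R _ I fun p hp => by
    obtain ⟨b, hbI, hb0, hf, -⟩ := hloc p ((ParaF27.mem_puncturedSpec_iff R).1 hp)
    exact ⟨b, hbI, hb0, hf⟩)
  obtain ⟨a, haI, ha0, hadvd⟩ := isPrincipal_of_gen_sat (FEt.puncturedSpec R) hH I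
    (fun hI => hb0 ((Submodule.eq_bot_iff I).1 hI b0 hb0I))
    ((ParaF27.mem_puncturedSpec_iff R (p := ⟨⊥, Ideal.isPrime_bot⟩)).2 hbot)
    (fun a ha η hη h1 => by
      rcases eq_or_ne a 0 with rfl | ha0
      · exact Or.inl (by rw [show val x 0 = 0 from map_zero _, zero_mul])
      obtain ⟨s, hs, hsa⟩ := ha ⟨DivDesc12.primeAt hη, inferInstance⟩ ((ParaF27.mem_puncturedSpec_iff R).2 (hH1 hη h1))
      have hs0 : s ≠ 0 := fun e => hs (by rw [e]; exact zero_mem _)
      have h5 := (hsa η hη h1).resolve_left (mul_ne_zero (val_ne_zero x (mul_ne_zero hs0 ha0)) hc)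
      rw [val_mul, mul_assoc, Scheme.ord_mul (val_ne_zero x hs0) (mul_ne_zero (val_ne_zero x ha0) hc),
        ord_val_eq_zero hX hη h1 hs, zero_add] at h5
      exact Or.inr h5)
    (ParaF27.exists_isGen_of_iso e)
  refine ⟨(val x a * c)⁻¹, inv_ne_zero (mul_ne_zero (val_ne_zero x ha0) hc), fun η h1 hη => ?_⟩
  obtain ⟨b, hbI, hb0, -, hbord⟩ := hloc ⟨DivDesc12.primeAt hη, inferInstance⟩ (hH1 hη h1)
  obtain ⟨d, rfl⟩ := hadvd b hbI
  have hd0 : d ≠ 0 := fun h0 => hb0 (by rw [h0, mul_zero])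
  have h5 : 0 ≤ Scheme.ord (val x a * c) η + Z η :=
    (haI η hη h1).resolve_left (mul_ne_zero (val_ne_zero x ha0) hc)
  have h6 := hbord η h1 hη rfl
  rw [val_mul, mul_right_comm, Scheme.ord_mul (mul_ne_zero (val_ne_zero x ha0) hc) (val_ne_zero x hd0)] at h6
  have h7 := ord_val_nonneg hX hη h1 hd0
  rw [ord_inv (mul_ne_zero (val_ne_zero x ha0) hc)]
  omega

end Groth.Agent.Div21F12
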