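import Groth.Agent.Lib.Div21F12.Basic
import Groth.Agent.Lib.IdealMul.Generic
import Groth.Agent.Lib.WDiv3.Basic
import Groth.Agent.Lib.DPerf.Noeth
import Groth.Agent.Lib.RefHull26.DepthExt
import Groth.Agent.Lib.RefHull26.PowAffine
import Groth.Agent.S2252
import Groth.Agent.Lib.CurveCoh17.Degree
import Groth.Agent.Lib.TensorMod.Invertible
import Groth.Agent.Lib.RefHull26.ClassLaw

/-!
# Locally factorial schemes with trivial Picard group
-/

set_option autoImplicit false
universe u
set_option linter.style.haveILetI false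
set_option backward.isDefEq.respectTransparency.types false

open CategoryTheory AlgebraicGeometry TopologicalSpace Opposite IsLocalRing

namespace Groth.Agent.Div21F12

open Groth.Agent.RH26

variable {X : Scheme.{u}} [IsIntegral X] [IsLocallyNoetherian X]

/-- The value at the generic point of an element of a local ring. -/
noncomputable def value (x : X) (r : X.presheaf.stalk x) : X.functionField := X.presheaf.stalkSpecializes (gsp x) r

theorem value_sp {ξ x : X} (h : ξ ⤳ x) (r : X.presheaf.stalk x) :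
    value ξ (X.presheaf.stalkSpecializes h r) = value x r := sp_trans' h (gsp ξ) r

/-- A function with nonnegative orders at all generizations lies in the local ring. -/
theorem exists_value_eq (hX : Pi1.IsNormalScheme X) (x : X) {f : X.functionField} (hf : f ≠ 0)
    (h : ∀ y, y ⤳ x → Order.coheight y = 1 → 0 ≤ Scheme.ord f y) : ∃ b, value x b = f :=
  mem_range_sp hX x f fun y hy h1 =>
    (inStalk_function_iff hX ((dim_eq_one_iff y).1 h1) hf).2 (h y hy ((dim_eq_one_iff y).1 h1))

theorem normal_of_principal_hypersurfaces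
    (h : ∀ ζ : X, Order.coheight ζ = 1 → ∀ (x : X) (h : ζ ⤳ x), ∃ g : X.presheaf.stalk x,
      (maximalIdeal (X.presheaf.stalk ζ)).comap (X.presheaf.stalkSpecializes h).hom = Ideal.span {g}) :
    Pi1.IsNormalScheme X := fun x => by
  haveI : UniqueFactorizationMonoid (X.presheaf.stalk x) := by
    refine ParaF27.ufd_of_height_one _ fun Q _ hQ => ?_
    obtain ⟨ξ, hξ, rfl⟩ := DivDesc12.exists_primeAt_eq x Q
    obtain ⟨g, hg⟩ := h ξ (by rw [← dim_eq_one_iff, LocFact12.ringKrullDim_eq_height hξ, hQ]; rfl) x hξ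
    exact ⟨g, hg⟩
  exact ⟨inferInstance, inferInstance⟩

theorem ord_value_eq_one_of_span (hX : Pi1.IsNormalScheme X) {ζ : X} (hζ : Order.coheight ζ = 1)
    {g : X.presheaf.stalk ζ} (hg : maximalIdeal (X.presheaf.stalk ζ) = Ideal.span {g}) :
    Scheme.ord (value ζ g) ζ = 1 := by
  haveI := isDVR_stalk hX hζ
  have : Ring.KrullDimLE 1 (X.presheaf.stalk ζ) := krullDimLE_of_coheight_le hζ.le
  have hirr : Irreducible g := (IsDiscreteValuationRing.irreducible_iff_uniformizer g).2 hg
  have h0 : algebraMap (X.presheaf.stalk ζ) X.functionField g ≠ 0 :=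
    (map_ne_zero_iff _ (IsFractionRing.injective (X.presheaf.stalk ζ) X.functionField)).2 hirr.ne_zero
  exact (Scheme.ord_eq_iff hζ h0).2 (Ring.ordFrac_irreducible hirr)

/-- From principal hypersurfaces to principal cycles. -/
theorem exists_function_of_global (hX : Pi1.IsNormalScheme X) {ζ : X} (hζ : Order.coheight ζ = 1) (g : Γ(X, ⊤))
    (h1 : ∀ (x : X) (h : ζ ⤳ x), (maximalIdeal (X.presheaf.stalk ζ)).comap (X.presheaf.stalkSpecializes h).hom =
      Ideal.span {X.presheaf.germ ⊤ x trivial g})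
    (h2 : ∀ x : X, ¬ ζ ⤳ x → IsUnit (X.presheaf.germ ⊤ x trivial g)) :
    ∃ f : X.functionField, f ≠ 0 ∧ Scheme.ord f ζ = 1 ∧ ∀ x : X, x ≠ ζ → Order.coheight x = 1 → Scheme.ord f x = 0 := by
  have hm : maximalIdeal (X.presheaf.stalk ζ) = Ideal.span {X.presheaf.germ ⊤ ζ trivial g} := by
    have := h1 ζ specializes_rfl
    rw [← this]
    exact (DivDesc12.primeAt_self ζ specializes_rfl).symm
  have hval : ∀ x : X, value x (X.presheaf.germ ⊤ x trivial g) = X.presheaf.germ ⊤ (genericPoint X) trivial g :=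
    fun x => TopCat.Presheaf.germ_stalkSpecializes_apply _ _ _ _
  have h1' := ord_value_eq_one_of_span hX hζ hm
  refine ⟨X.presheaf.germ ⊤ (genericPoint X) trivial g, fun h0 => ?_, hval ζ ▸ h1', fun x hne hx => ?_⟩
  · rw [hval ζ, h0] at h1'
    simp at h1'
  · rw [← hval x]
    exact ord_eq_zero_of_isUnit hX hx (h2 x fun hs => hne (eq_of_coheight_one hs hζ hx).symm)

/-- From principal cycles to principal hypersurfaces. -/
theorem exists_global_of_function (hX : Pi1.IsNormalScheme X) {ζ : X} (hζ : Order.coheight ζ = 1)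
    {f : X.functionField} (hf : f ≠ 0) (h1 : Scheme.ord f ζ = 1)
    (h0 : ∀ x : X, x ≠ ζ → Order.coheight x = 1 → Scheme.ord f x = 0) :
    ∃ g : Γ(X, ⊤),
      (∀ (x : X) (h : ζ ⤳ x), (maximalIdeal (X.presheaf.stalk ζ)).comap (X.presheaf.stalkSpecializes h).hom =
        Ideal.span {X.presheaf.germ ⊤ x trivial g}) ∧
      ∀ x : X, ¬ ζ ⤳ x → IsUnit (X.presheaf.germ ⊤ x trivial g) := by
  have hnn : ∀ y : X, Order.coheight y = 1 → 0 ≤ Scheme.ord f y := fun y hy => by
    rcases eq_or_ne y ζ with rfl | hne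
    · omega
    · rw [h0 y hne hy]
  obtain ⟨g, hg⟩ := exists_gfun_eq (W := ⊤) (y := genericPoint X) trivial f fun z _ =>
    exists_value_eq hX z hf fun y _ hy => hnn y hy
  have hval : ∀ x : X, value x (X.presheaf.germ ⊤ x trivial g) = f := fun x => by
    rw [← hg, gfun_eq_sp (U := ⊤) (y := genericPoint X) (z := x) trivial trivial]; rfl
  refine ⟨g, fun x hx => le_antisymm (fun q hq => ?_) (Ideal.span_le.2 (Set.singleton_subset_iff.2 ?_)), fun x hx => ?_⟩
  · rcases eq_or_ne q 0 with rfl | hq0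
    · exact zero_mem _
    have hQ : value x q ≠ 0 := fun h => hq0 (sp_injective x (h.trans (map_zero _).symm))
    obtain ⟨d, hd⟩ := exists_value_eq hX x (mul_ne_zero hQ (inv_ne_zero hf)) fun y hy h => by
      rw [Scheme.ord_mul hQ (inv_ne_zero hf), RH26.ord_inv hf]
      have h3 : 0 ≤ Scheme.ord (value x q) y :=
        (inStalk_function_iff hX h hQ).1 ⟨_, value_sp hy q⟩
      rcases eq_or_ne y ζ with rfl | hne
      · have h4 := one_le_ord_of_not_isUnit hX h (r := X.presheaf.stalkSpecializes hy q)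
          (fun e => hQ (by rw [← value_sp hy q, e]; exact map_zero _)) hq
        rw [algebraMap_sp] at h4
        change 1 ≤ Scheme.ord (value y (X.presheaf.stalkSpecializes hy q)) y at h4
        rw [value_sp] at h4
        omega
      · rw [h0 y hne h]; omega
    refine Ideal.mem_span_singleton.2 ⟨d, sp_injective x ?_⟩
    rw [map_mul]
    change value x q = value x _ * value x d
    rw [hval, hd, mul_left_comm, mul_inv_cancel₀ hf, mul_one]
  · refine fun hu => ?_
    have := ord_eq_zero_of_isUnit hX hζ hu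
    rw [show X.presheaf.stalkSpecializes (gsp ζ) (X.presheaf.stalkSpecializes hx (X.presheaf.germ ⊤ x trivial g)) = f from
      (sp_trans' hx (gsp ζ) _).trans (hval x), h1] at this
    exact one_ne_zero this
  · obtain ⟨d, hd⟩ := exists_value_eq hX x (inv_ne_zero hf) fun y hy h => by
      rw [RH26.ord_inv hf, h0 y (fun e => hx (e ▸ hy)) h, neg_zero]
    refine IsUnit.of_mul_eq_one d (sp_injective x ?_)
    rw [map_mul, map_one]
    change value x _ * value x d = 1
    rw [hval, hd, mul_inv_cancel₀ hf]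

theorem ufd_of_principal_cycles (hX : Pi1.IsNormalScheme X)
    (h : ∀ ζ : X, Order.coheight ζ = 1 → ∃ f : X.functionField, f ≠ 0 ∧
      Scheme.ord f ζ = 1 ∧ ∀ x : X, x ≠ ζ → Order.coheight x = 1 → Scheme.ord f x = 0) (x : X) :
    UniqueFactorizationMonoid (X.presheaf.stalk x) :=
  ufd_stalk_of_cartier hX (fun ξ hξ => by
    obtain ⟨f, hf, h1, h0⟩ := h ξ hξ
    refine ⟨Coh.structureModule X, PicLoc.isInvertible_structureModule X, f • str (genericPoint X) 1,
      fun e => hf ((gen_oneStalk (genericPoint X)).1 ?_), by rw [ordv_structure hξ hf, h1],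
      fun y hy hne => by rw [ordv_structure hy hf, h0 y hne hy]⟩
    show f • str (genericPoint X) 1 = (0 : X.presheaf.stalk (genericPoint X)) • str (genericPoint X) 1
    rw [e, zero_smul]) x

theorem picTrivial_of_principal_cycles [CompactSpace X] (hX : Pi1.IsNormalScheme X)
    (h : ∀ ζ : X, Order.coheight ζ = 1 → ∃ f : X.functionField, f ≠ 0 ∧
      Scheme.ord f ζ = 1 ∧ ∀ x : X, x ≠ ζ → Order.coheight x = 1 → Scheme.ord f x = 0)
    (L : X.Modules) (hL : PicF.IsInvertible L) : Nonempty (L ≅ Coh.structureModule X) := by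
  classical
  have hc : Coh.IsCoh L := CurveCoh17.isCoh_of_ofRank ((M2.isInvertible_iff_isFinLocFreeOfRank_one L).1 hL)
  have hR := r1_of_invertible hX hL hc
  obtain ⟨a, ha⟩ := hR.exists_ne_zero
  obtain ⟨E, hE0, hE⟩ := hR.exists_cycle ha
  have hfin : (Function.support E.toFun).Finite := by
    choose t ht hfin using fun z : X => E.supportLocallyFiniteWithinDomain' z trivial
    obtain ⟨s, hs⟩ := isCompact_univ.elim_nhds_subcover t fun z _ => ht z
    refine (s.finite_toSet.biUnion fun z _ => hfin z).subset fun y hy => ?_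
    obtain ⟨z, hz, hyz⟩ := Set.mem_iUnion₂.1 (hs.2 (Set.mem_univ y))
    exact Set.mem_iUnion₂.2 ⟨z, hz, hyz, hy⟩
  have hmem : ∀ ξ ∈ hfin.toFinset, Order.coheight ξ = 1 := fun ξ hξ => by
    by_contra hne
    exact hfin.mem_toFinset.1 hξ (hE0 ξ hne)
  choose! f hf hf1 hf0 using h
  have hne : ∀ ξ ∈ hfin.toFinset, f ξ ^ (E ξ) ≠ 0 := fun ξ hξ => zpow_ne_zero _ (hf ξ (hmem ξ hξ))
  refine nonempty_iso_of_ord hX hL hc ha (f := ∏ ξ ∈ hfin.toFinset, f ξ ^ (E ξ)) (Finset.prod_ne_zero_iff.2 hne) fun y hy => ?_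
  rw [← hE y hy, WDiv3.ord_prod _ _ hne]
  have hterm : ∀ ξ ∈ hfin.toFinset, Scheme.ord (f ξ ^ (E ξ)) y = if ξ = y then E y else 0 := fun ξ hξ => by
    rw [WDiv3.ord_zpow (hf ξ (hmem ξ hξ))]
    by_cases e : ξ = y
    · subst e; rw [if_pos rfl, hf1 ξ hy, mul_one]
    · rw [if_neg e, hf0 ξ (hmem ξ hξ) y (Ne.symm e) hy, mul_zero]
  rw [Finset.sum_congr rfl hterm, Finset.sum_ite_eq']
  split_ifs with hy'
  · rfl
  · by_contra hne'
    exact hy' (hfin.mem_toFinset.2 hne')

theorem gen_iso {M N : X.Modules} (e : M ≅ N) {x : X} {g : M.presheaf.stalk x} (hg : Amp.Gen g) :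
    Amp.Gen (RefHull.stalkMapₗ e.hom x g) := by
  have hb : Function.Bijective (RefHull.stalkMapₗ e.hom x) := (isIso_iff_stalkMapₗ _).1 inferInstance x
  show Function.Bijective fun r => r • RefHull.stalkMapₗ e.hom x g
  have : (fun r => r • RefHull.stalkMapₗ e.hom x g) = RefHull.stalkMapₗ e.hom x ∘ fun r => r • g :=
    funext fun r => (map_smul _ r g).symm
  rw [this]
  exact hb.comp hg

omit [IsLocallyNoetherian X] in
/-- A generator of the stalk of a module from one of its restriction. -/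
theorem gen_of_restrict (F : X.Modules) (U : X.Opens) (z : (U : Scheme.{u}))
    {g : (F.restrict U.ι).presheaf.stalk z} (hg : Amp.Gen g) : ∃ g' : F.presheaf.stalk z.1, Amp.Gen g' := by
  obtain ⟨e, he⟩ := exists_restrict_stalk_equiv F U z
  let σ := (U.stalkIso z).commRingCatIsoToRingEquiv
  refine ⟨e g, ?_⟩
  show Function.Bijective fun r => r • e g
  have : (fun r => r • e g) = e ∘ (fun a => a • g) ∘ σ.symm := funext fun r => by
    show _ = e (σ.symm r • g)
    rw [he]
    exact congrArg (· • e g) (σ.apply_symm_apply r).symm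
  rw [this]
  exact e.bijective.comp (Function.Bijective.comp hg σ.symm.bijective)

omit [IsLocallyNoetherian X] in
/-- A generator of the stalk of a restriction. -/
theorem gen_restrict (F : X.Modules) (U : X.Opens) (z : (U : Scheme.{u}))
    {g : F.presheaf.stalk z.1} (hg : Amp.Gen g) : ∃ g' : (F.restrict U.ι).presheaf.stalk z, Amp.Gen g' := by
  obtain ⟨e, he⟩ := exists_restrict_stalk_equiv F U z
  let σ := (U.stalkIso z).commRingCatIsoToRingEquiv
  refine ⟨e.symm g, ?_⟩
  show Function.Bijective fun r => r • e.symm g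
  have : (fun r => r • e.symm g) = e.symm ∘ (fun a => a • g) ∘ σ := funext fun r => by
    show _ = e.symm (σ r • g)
    exact e.injective (by rw [he, AddEquiv.apply_symm_apply, AddEquiv.apply_symm_apply]; rfl)
  rw [this]
  exact e.symm.bijective.comp (Function.Bijective.comp hg σ.bijective)

/-- Invertible modules on opens of a locally factorial scheme with trivial Picard group are trivial. -/
theorem picTrivial_open (hX : Pi1.IsNormalScheme X) (hU' : ∀ x : X, UniqueFactorizationMonoid (X.presheaf.stalk x))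
    (hpic : ∀ L : X.Modules, PicF.IsInvertible L → Nonempty (L ≅ Coh.structureModule X))
    (U : X.Opens) (L : (U : Scheme.{u}).Modules) (hL : PicF.IsInvertible L) :
    Nonempty (L ≅ Coh.structureModule (U : Scheme.{u})) := by
  rcases isEmpty_or_nonempty U with hemp | hne
  · haveI : IsIso (0 : L ⟶ Coh.structureModule (U : Scheme.{u})) :=
      (M1.isIso_iff_stalk _).2 fun z => (hemp.false z).elim
    exact ⟨asIso (0 : L ⟶ Coh.structureModule (U : Scheme.{u}))⟩
  obtain ⟨z₀⟩ := hne
  have hη : genericPoint X ∈ U := mem_of_genericPoint U z₀.2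
  have hLc : Coh.IsCoh L := CurveCoh17.isCoh_of_ofRank ((M2.isInvertible_iff_isFinLocFreeOfRank_one L).1 hL)
  haveI : Coh.IsQCoh L := hLc.1
  obtain ⟨G, hGq, hGf, ⟨eG⟩⟩ := S2252.result (fun x => by
      obtain ⟨V, hV, hx, -⟩ := exists_isAffineOpen_mem_and_subset (show x ∈ (⊤ : X.Opens) from trivial)
      haveI : IsNoetherianRing Γ(X, V) := IsLocallyNoetherian.component_noetherian ⟨V, hV⟩
      exact ⟨V, hx, noetherianSpace_of_isAffineOpen V hV⟩) U L (M1.isFP_isFT (M1.isFP_of_isCoh hLc))
  have hG : Coh.IsCoh G := DPerf.isCoh_of_isFT_of_isQCoh hGq hGf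
  have hgen : ∀ (x : X) (hx : x ∈ U), ∃ g : G.presheaf.stalk x, Amp.Gen g := fun x hx => by
    obtain ⟨g, hg⟩ := Cyc26.exists_gen hL (⟨x, hx⟩ : (U : Scheme.{u}))
    have hb : Function.Bijective (RefHull.stalkMapₗ eG.inv (⟨x, hx⟩ : (U : Scheme.{u}))) :=
      (isIso_iff_stalkMapₗ _).1 inferInstance _
    refine gen_of_restrict G U ⟨x, hx⟩ (g := RefHull.stalkMapₗ eG.inv _ g) ?_
    show Function.Bijective fun r => r • RefHull.stalkMapₗ eG.inv _ g
    rw [show (fun r => r • RefHull.stalkMapₗ eG.inv _ g) = RefHull.stalkMapₗ eG.inv (⟨x, hx⟩ : (U : Scheme.{u})) ∘ fun r => r • g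
      from funext fun r => (map_smul _ r g).symm]
    exact hb.comp hg
  have hR : R1 (RefHull.ddual G) := R1.ddual hX hG (hgen _ hη)
  obtain ⟨g₀, hg₀⟩ := hR.gen
  have hinv : PicF.IsInvertible (RefHull.ddual G) := isInvertible_of_gen hR.coh fun x => by
    haveI := hU' x
    exact exists_gen_of_isReflexiveAt_ufd hR.coh ((isReflexive_iff_stalks hR.coh).1 hR.isRef1.2.1 x) hg₀
  obtain ⟨e⟩ := hpic _ hinv
  haveI : IsIso ((Scheme.Modules.restrictFunctor U.ι).map (RefHull.bidualMap G)) :=
    Groth.Agent.IdealMulL.isIso_restrict_map _ U fun x hx => by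
      obtain ⟨g, hg⟩ := hgen x hx
      exact (bijective_bidual_stalk_iff hG x).2 (isReflexiveAt_of_gen hg)
  exact ⟨eG.symm ≪≫ asIso ((Scheme.Modules.restrictFunctor U.ι).map (RefHull.bidualMap G)) ≪≫
    (Scheme.Modules.restrictFunctor U.ι).mapIso e ≪≫ Scheme.Modules.restrictUnitIso _⟩

/-- Triviality of the Picard groups of all opens gives principal cycles. -/
theorem exists_function_of_picTrivial_opens (hX : Pi1.IsNormalScheme X)
    (hpic : ∀ (U : X.Opens) (L : (U : Scheme.{u}).Modules),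
      PicF.IsInvertible L → Nonempty (L ≅ Coh.structureModule (U : Scheme.{u})))
    {ζ : X} (hζ : Order.coheight ζ = 1) :
    ∃ f : X.functionField, f ≠ 0 ∧ Scheme.ord f ζ = 1 ∧ ∀ x : X, x ≠ ζ → Order.coheight x = 1 → Scheme.ord f x = 0 := by
  classical
  let D : AlgebraicCycle X ℤ :=
    { toFun := fun y => if y = ζ then 1 else 0
      supportWithinDomain' := Set.subset_univ _
      supportLocallyFiniteWithinDomain' := fun z _ => ⟨Set.univ, Filter.univ_mem, (Set.finite_singleton ζ).subset fun y hy => by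
        by_contra hne; exact hy.2 (if_neg hne)⟩ }
  let U : X.Opens := ⟨{x | ∃ g : (od hX D).presheaf.stalk x, Amp.Gen g}, isOpen_iff_forall_mem_open.2 fun x ⟨g, hg⟩ => by
    obtain ⟨W, hW, e, he, -⟩ := exists_isGenerator_nhd (isCoh_od (hX := hX) (D := D)) hg
    exact ⟨W, fun y hy => ⟨_, Amp.gen_of_isGenerator he hy⟩, W.isOpen, hW⟩⟩
  have hη : genericPoint X ∈ U := ⟨_, gen_oneη⟩
  have h1 : ∀ y : X, Order.coheight y = 1 → y ∈ U := fun y hy => by
    obtain ⟨g, hg, -⟩ := (r1_od (hX := hX) (D := D)).gen_one hy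
    exact ⟨g, hg⟩
  haveI : Nonempty (U : Scheme.{u}) := ⟨⟨_, hη⟩⟩
  haveI : IsIntegral (U : Scheme.{u}) := isIntegral_of_isOpenImmersion U.ι
  obtain ⟨e⟩ := hpic U ((od hX D).restrict U.ι) (isInvertible_of_gen (DPerf.isCoh_restrict isCoh_od U.ι) fun z => by
    obtain ⟨g, hg⟩ := (show z.1 ∈ U from z.2)
    exact gen_restrict _ U z hg)
  obtain ⟨τ, hτ⟩ := ParaF27.exists_isGen_of_iso e
  have hgy : ∀ (y : X) (hy : y ∈ U), Amp.Gen (Amp.gm (od hX D) y hy τ) := fun y hy =>
    Amp.gen_of_isGenerator (show M2.IsGenerator τ from hτ) hy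
  obtain ⟨k, hk⟩ := gen_oneη.2 (Amp.gm (od hX D) (genericPoint X) hη τ)
  change k • oneη hX D = _ at hk
  have hk0 : (k : X.functionField) ≠ 0 := fun h0 => ne_zero_of_gen (hgy _ hη) (by
    rw [← hk, show k = (0 : X.presheaf.stalk (genericPoint X)) from h0, zero_smul])
  have hord : ∀ y : X, Order.coheight y = 1 → Scheme.ord (k : X.functionField) y + D y = 0 := fun y hy => by
    have hsp : (od hX D).presheaf.stalkSpecializes (gsp y) (Amp.gm (od hX D) y (h1 y hy) τ) = k • oneη hX D :=
      (TopCat.Presheaf.germ_stalkSpecializes_apply _ _ _ _).trans hk.symm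
    have h3 := ordv_gen hy (hgy y (h1 y hy)) (hsp ▸ hk ▸ hgy _ hη) (φ := (1 : X.functionField)) one_ne_zero
    rw [hsp, ord_one, show (1 : X.functionField) • (k • oneη hX D) = k • oneη hX D from one_smul _ _,
      r1_od.ordv_smul hy hk0 oneη_ne_zero, ordv_oneη hy] at h3
    exact h3
  refine ⟨(k : X.functionField)⁻¹, inv_ne_zero hk0, ?_, fun x hne hx => ?_⟩
  · have := hord ζ hζ
    rw [RH26.ord_inv hk0]
    rw [show D ζ = 1 from if_pos rfl] at this
    omega
  · have := hord x hx
    rw [RH26.ord_inv hk0]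
    rw [show D x = 0 from if_neg hne] at this
    omega

end Groth.Agent.Div21F12
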